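import Mathlib

set_option autoImplicit false

namespace Cfsg.Agent.Lib.Helper53

/-- A nontrivial normal subgroup of a finite `p`-group contains a nontrivial central element. -/
theorem exists_mem_center_of_normal {G : Type*} [Group G] [Finite G] {p : ℕ} [Fact p.Prime]
    (hG : IsPGroup p G) (N : Subgroup G) [N.Normal] (hN : N ≠ ⊥) :
    ∃ z ∈ N, z ∈ Subgroup.center G ∧ z ≠ 1 := by
  have hNp : IsPGroup p ↥N := hG.to_subgroup N
  have hnt : Nontrivial ↥N := (Subgroup.nontrivial_iff_ne_bot N).mpr hN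
  have dvd : p ∣ Nat.card ↥N := by
    obtain ⟨n, hn0, hn⟩ := hNp.nontrivial_iff_card.mp hnt
    exact hn.symm ▸ dvd_pow_self _ (ne_of_gt hn0)
  have h1 : (1 : ↥N) ∈ MulAction.fixedPoints (ConjAct G) ↥N := by
    intro g
    exact smul_one g
  obtain ⟨b, hb, hb1⟩ :=
    (hG.of_equiv ConjAct.toConjAct).exists_fixed_point_of_prime_dvd_card_of_fixed_point ↥N dvd h1
  refine ⟨b, b.2, ?_, ?_⟩
  · rw [Subgroup.mem_center_iff]
    intro g
    have := congrArg Subtype.val (hb (ConjAct.toConjAct g))
    rw [ConjAct.Subgroup.val_conj_smul, ConjAct.toConjAct_smul] at this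
    calc g * (b : G) = g * b * g⁻¹ * g := by group
      _ = b * g := by rw [this]
  · intro h
    apply hb1
    exact (Subtype.ext h).symm

end Cfsg.Agent.Lib.Helper53
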