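import Mathlib

set_option autoImplicit false

namespace Cfsg.Agent.Lib.Helper53

open scoped Pointwise

/-- conjugate subgroup `g H g⁻¹` (in the form used by the statements) -/
abbrev cj {G : Type*} [Group G] (g : G) (H : Subgroup G) : Subgroup G :=
  H.map (MulAut.conj g).toMonoidHom

lemma mem_cj {G : Type*} [Group G] (g x : G) (H : Subgroup G) : x ∈ cj g H ↔ g⁻¹ * x * g ∈ H := by
  constructor
  · rintro ⟨h, hh, rfl⟩
    have : g⁻¹ * (MulAut.conj g).toMonoidHom h * g = h := by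
      show g⁻¹ * (g * h * g⁻¹) * g = h
      group
    rw [this]; exact hh
  · intro h
    refine ⟨_, h, ?_⟩
    show g * (g⁻¹ * x * g) * g⁻¹ = x
    group

lemma conj_mem_cj {G : Type*} [Group G] (g : G) {x : G} {H : Subgroup G} (hx : x ∈ H) :
    g * x * g⁻¹ ∈ cj g H := Subgroup.mem_map_of_mem (MulAut.conj g).toMonoidHom hx

lemma cj_le_iff {G : Type*} [Group G] (A B : Subgroup G) (g : G) :
    cj g A ≤ B ↔ ∀ a ∈ A, g * a * g⁻¹ ∈ B := by
  constructor
  · intro h a ha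
    exact h (Subgroup.mem_map_of_mem _ ha)
  · rintro h _ ⟨a, ha, rfl⟩
    exact h a ha

lemma cj_cj {G : Type*} [Group G] (g h : G) (H : Subgroup G) : cj g (cj h H) = cj (g * h) H := by
  ext x
  rw [mem_cj, mem_cj, mem_cj]
  have : h⁻¹ * (g⁻¹ * x * g) * h = (g * h)⁻¹ * x * (g * h) := by group
  rw [this]

lemma cj_one {G : Type*} [Group G] (H : Subgroup G) : cj 1 H = H := by
  ext x; rw [mem_cj]; simp

lemma cj_mono {G : Type*} [Group G] (g : G) {H K : Subgroup G} (h : H ≤ K) : cj g H ≤ cj g K :=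
  Subgroup.map_mono h

lemma card_cj {G : Type*} [Group G] (g : G) (H : Subgroup G) : Nat.card ↥(cj g H) = Nat.card ↥H :=
  Subgroup.card_map_of_injective (MulAut.conj g).injective

lemma mem_normalizer_iff_cj {G : Type*} [Group G] (g : G) (H : Subgroup G) :
    g ∈ Subgroup.normalizer (H : Set G) ↔ cj g H = H :=
  Subgroup.mem_normalizer_iff_map_conj_eq

lemma cj_eq_of_le {G : Type*} [Group G] [Finite G] (g : G) (H : Subgroup G) (h : cj g H ≤ H) :
    cj g H = H :=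
  Subgroup.eq_of_le_of_card_ge h (by rw [card_cj])

lemma isPGroup_cj {G : Type*} [Group G] {p : ℕ} (g : G) {H : Subgroup G} (h : IsPGroup p ↥H) :
    IsPGroup p ↥(cj g H) := h.map _

lemma mem_smul_sylow_iff {J : Type*} [Group J] {p : ℕ} (g b : J) (P : Sylow p J) :
    b ∈ ((g • P : Sylow p J) : Subgroup J) ↔ g⁻¹ * b * g ∈ (P : Subgroup J) := by
  have : b ∈ ((g • P : Sylow p J) : Subgroup J) ↔ b ∈ MulAut.conj g • (P : Subgroup J) := Iff.rfl
  rw [this, Subgroup.mem_pointwise_smul_iff_inv_smul_mem]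
  simp [MulAut.smul_def]

lemma coe_smul_sylow {J : Type*} [Group J] {p : ℕ} (g : J) (P : Sylow p J) :
    ((g • P : Sylow p J) : Subgroup J) = cj g (P : Subgroup J) := by
  ext x
  rw [mem_smul_sylow_iff, mem_cj]

/-- Sylow conjugation inside a subgroup `M` containing the Sylow subgroup `S` of `G`:
a `p`-subgroup `Q ≤ M` is conjugate under `M` into `S`. -/
lemma sylow_conj_in {G : Type*} [Group G] [Finite G] {p : ℕ} [Fact p.Prime] (S : Sylow p G)
    (M : Subgroup G) (hSM : (S : Subgroup G) ≤ M) (Q : Subgroup G) (hQ : IsPGroup p ↥Q) (hQM : Q ≤ M) :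
    ∃ m ∈ M, cj m Q ≤ S := by
  have hp : IsPGroup p ↥(Q.subgroupOf M) := hQ.comap_subtype
  obtain ⟨R, hR⟩ := hp.exists_le_sylow
  obtain ⟨n, hn⟩ := MulAction.exists_smul_eq ↥M (S.subtype hSM) R
  refine ⟨(n : G)⁻¹, inv_mem n.2, ?_⟩
  rw [cj_le_iff]
  intro x hx
  have h1 : (⟨x, hQM hx⟩ : ↥M) ∈ (R : Subgroup ↥M) := by
    apply hR
    rw [Subgroup.mem_subgroupOf]; exact hx
  rw [← hn, mem_smul_sylow_iff, Sylow.coe_subtype, Subgroup.mem_subgroupOf] at h1
  simpa using h1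

/-- every `p`-subgroup is conjugate into a given Sylow `p`-subgroup -/
lemma exists_cj_le_sylow {G : Type*} [Group G] [Finite G] {p : ℕ} [Fact p.Prime] (S : Sylow p G)
    (Q : Subgroup G) (hQ : IsPGroup p ↥Q) : ∃ m : G, cj m Q ≤ S := by
  obtain ⟨m, _, h⟩ := sylow_conj_in S ⊤ le_top Q hQ le_top
  exact ⟨m, h⟩

/-- membership in `Z(U)` viewed inside `G` -/
lemma mem_map_center_iff {G : Type*} [Group G] (U : Subgroup G) (z : G) :
    z ∈ (Subgroup.center ↥U).map U.subtype ↔ z ∈ U ∧ ∀ u ∈ U, u * z = z * u := by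
  constructor
  · rintro ⟨⟨w, hw⟩, hc, rfl⟩
    refine ⟨hw, fun u hu => ?_⟩
    have := Subgroup.mem_center_iff.mp hc ⟨u, hu⟩
    exact congrArg Subtype.val this
  · rintro ⟨hz, hc⟩
    refine ⟨⟨z, hz⟩, ?_, rfl⟩
    apply Subgroup.mem_center_iff.mpr
    rintro ⟨u, hu⟩
    exact Subtype.ext (hc u hu)

end Cfsg.Agent.Lib.Helper53
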